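import Groth.Agent.ChGrp.K982.Pts

/-!
# Group actions on points, homogeneous spaces and balanced products on points
-/

set_option autoImplicit false
universe u

open CategoryTheory CategoryTheory.Limits MonoidalCategory CartesianMonoidalCategory MonObj GrpObj AlgebraicGeometry Opposite

namespace K982.Act

open K982.Pts

variable {S : Scheme.{u}}

/-- every point of a product is a pair. -/
theorem exists_eq_lift {A B T : Over S} (p : T ⟶ A ⊗ B) : ∃ (a : T ⟶ A) (b : T ⟶ B), p = lift a b :=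
  ⟨p ≫ fst A B, p ≫ snd A B, by rw [← comp_lift, lift_fst_snd, Category.comp_id]⟩

theorem lift_inj {A B T : Over S} {a a' : T ⟶ A} {b b' : T ⟶ B} (h : lift a b = lift a' b') : a = a' ∧ b = b' := by
  constructor
  · have := congrArg (· ≫ fst A B) h
    simpa using this
  · have := congrArg (· ≫ snd A B) h
    simpa using this

section Action

variable {G H X : Over S} [GrpObj G] [GrpObj H] (a : AlgGrp.Action G X)

/-- the action on points -/
noncomputable def sm {T : Over S} (g : T ⟶ G) (x : T ⟶ X) : T ⟶ X := lift g x ≫ a.act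

theorem lift_act {T : Over S} (g : T ⟶ G) (x : T ⟶ X) : lift g x ≫ a.act = sm a g x := rfl

@[reassoc]
theorem comp_sm {T T' : Over S} (t : T' ⟶ T) (g : T ⟶ G) (x : T ⟶ X) :
    t ≫ sm a g x = sm a (t ≫ g) (t ≫ x) := by
  rw [sm, sm, comp_lift_assoc]

theorem one_sm {T : Over S} (x : T ⟶ X) : sm a 1 x = x := AlgGrp.Action.lift_one_act a x

theorem mul_sm {T : Over S} (g g' : T ⟶ G) (x : T ⟶ X) : sm a (g * g') x = sm a g (sm a g' x) :=
  AlgGrp.Action.lift_mul_act a g g' x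

theorem inv_sm_sm {T : Over S} (g : T ⟶ G) (x : T ⟶ X) : sm a g⁻¹ (sm a g x) = x := by
  rw [← mul_sm, inv_mul_cancel, one_sm]

theorem sm_inv_sm {T : Over S} (g : T ⟶ G) (x : T ⟶ X) : sm a g (sm a g⁻¹ x) = x := by
  rw [← mul_sm, mul_inv_cancel, one_sm]

theorem sm_eq_iff {T : Over S} (g : T ⟶ G) (x y : T ⟶ X) : sm a g x = y ↔ x = sm a g⁻¹ y :=
  ⟨fun h => by rw [← h, inv_sm_sm], fun h => by rw [h, sm_inv_sm]⟩

theorem act_eq : a.act = sm a (fst G X) (snd G X) := by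
  rw [sm, lift_fst_snd, Category.id_comp]

theorem sm_restrict (φ : H ⟶ G) [IsMonHom φ] {T : Over S} (h : T ⟶ H) (x : T ⟶ X) :
    sm (a.restrict φ) h x = sm a (h ≫ φ) x := AlgGrp.Action.lift_restrict_act φ a h x

theorem comp_orbitMap {T : Over S} (g : T ⟶ G) (o : 𝟙_ (Over S) ⟶ X) :
    g ≫ a.orbitMap o = sm a g (toUnit T ≫ o) := AlgGrp.Action.comp_orbitMap a g o

theorem sm_trivialAction {T : Over S} (g x : T ⟶ G) : sm (NonAbH1.trivialAction G) g x = g * x := rfl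

theorem sm_prod {Y : Over S} (b : AlgGrp.Action G Y) {T : Over S} (g : T ⟶ G) (x : T ⟶ X) (y : T ⟶ Y) :
    sm (a.prod b) g (lift x y) = lift (sm a g x) (sm b g y) := AlgGrp.Action.lift_prod_act a b g x y

theorem sm_trivial {T : Over S} (g : T ⟶ G) (x : T ⟶ X) : sm (AlgGrp.Action.trivial G X) g x = x :=
  AlgGrp.Action.lift_trivial_act g x

theorem sm_twist {Z : Over S} (i : H ⟶ G) [IsMonHom i] (aZ : AlgGrp.Action H Z) {T : Over S} (h : T ⟶ H)
    (g : T ⟶ G) (z : T ⟶ Z) : sm (ChGrp.twist i aZ) h (lift g z) = lift (g * (h ≫ i)⁻¹) (sm aZ h z) :=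
  ChGrp.lift_twist_act i aZ h g z

variable {Y : Over S} (b : AlgGrp.Action G Y)

theorem isEquivariant_iff (f : X ⟶ Y) :
    AlgGrp.Action.IsEquivariant a b f ↔
      ∀ (T : Over S) (g : T ⟶ G) (x : T ⟶ X), sm a g x ≫ f = sm b g (x ≫ f) := by
  constructor
  · intro h T g x
    rw [sm, Category.assoc, h, ← Category.assoc, lift_whiskerLeft]
    rfl
  · intro h
    refine AlgGrp.Action.hom_ext_lift₂ fun T g x => ?_
    rw [← Category.assoc, lift_act, h, ← Category.assoc, lift_whiskerLeft]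
    rfl

end Action

section Homog

variable {G H Q : Over S} [GrpObj G] [GrpObj H] {K : Precoverage Scheme.{u}}

omit [GrpObj H] in
theorem lift_whisker_mul (i : H ⟶ G) {T : Over S} (g : T ⟶ G) (h : T ⟶ H) :
    lift g h ≫ (G ◁ i) ≫ μ[G] = g * (h ≫ i) := by
  rw [← Category.assoc, lift_whiskerLeft, ← Hom.mul_def]

/-- two points of `G` with the same image in `G/H` differ by a unique point of `H`. -/
theorem exists_of_isHomog {i : H ⟶ G} {aQ : AlgGrp.Action G Q} {q₀ : 𝟙_ (Over S) ⟶ Q}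
    (hQ : ChGrp.IsHomog K i aQ q₀) {T : Over S} (g g' : T ⟶ G)
    (h : sm aQ g (toUnit T ≫ q₀) = sm aQ g' (toUnit T ≫ q₀)) : ∃ h : T ⟶ H, g' = g * (h ≫ i) := by
  obtain ⟨p, hp1, hp2⟩ := exists_of_isPullback hQ.2.1 g g' (by
    rw [comp_orbitMap, comp_orbitMap]; exact h)
  obtain ⟨x, y, rfl⟩ := exists_eq_lift p
  rw [lift_fst] at hp1
  rw [lift_whisker_mul] at hp2
  exact ⟨y, by rw [← hp2, hp1]⟩

theorem unique_of_isHomog {i : H ⟶ G} {aQ : AlgGrp.Action G Q} {q₀ : 𝟙_ (Over S) ⟶ Q}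
    (hQ : ChGrp.IsHomog K i aQ q₀) {T : Over S} (h h' : T ⟶ H) (e : h ≫ i = h' ≫ i) : h = h' := by
  have h1 : lift (1 : T ⟶ G) h = lift (1 : T ⟶ G) h' := by
    apply hQ.2.1.hom_ext
    · rw [lift_fst, lift_fst]
    · rw [lift_whisker_mul, lift_whisker_mul, e]
  exact (lift_inj h1).2

theorem mono_of_isHomog {i : H ⟶ G} {aQ : AlgGrp.Action G Q} {q₀ : 𝟙_ (Over S) ⟶ Q}
    (hQ : ChGrp.IsHomog K i aQ q₀) : Mono i :=
  ⟨fun h h' e => unique_of_isHomog hQ h h' e⟩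

theorem sm_of_isHomog {i : H ⟶ G} {aQ : AlgGrp.Action G Q} {q₀ : 𝟙_ (Over S) ⟶ Q}
    (hQ : ChGrp.IsHomog K i aQ q₀) {T : Over S} (g : T ⟶ G) (h : T ⟶ H) :
    sm aQ (g * (h ≫ i)) (toUnit T ≫ q₀) = sm aQ g (toUnit T ≫ q₀) := by
  have := congrArg (lift g h ≫ ·) hQ.2.1.w
  simp only [lift_fst_assoc] at this
  rw [← Category.assoc, lift_whisker_mul, comp_orbitMap, comp_orbitMap] at this
  exact this.symm

theorem sm_point_of_isHomog {i : H ⟶ G} {aQ : AlgGrp.Action G Q} {q₀ : 𝟙_ (Over S) ⟶ Q}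
    (hQ : ChGrp.IsHomog K i aQ q₀) {T : Over S} (h : T ⟶ H) :
    sm aQ (h ≫ i) (toUnit T ≫ q₀) = toUnit T ≫ q₀ := by
  have := sm_of_isHomog hQ (1 : T ⟶ G) h
  rwa [_root_.one_mul, one_sm] at this

end Homog

section BalProd

variable {G H Z Y : Over S} [GrpObj G] [GrpObj H] {K : Precoverage Scheme.{u}} {i : H ⟶ G} [IsMonHom i]
  {aZ : AlgGrp.Action H Z} {aY : AlgGrp.Action G Y} {j : G ⊗ Z ⟶ Y}

theorem isBalProd_of_points
    (h1 : ∀ (T : Over S) (g' g : T ⟶ G) (z : T ⟶ Z), lift (g' * g) z ≫ j = sm aY g' (lift g z ≫ j))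
    (h2 : ∀ (T : Over S) (h : T ⟶ H) (g : T ⟶ G) (z : T ⟶ Z),
      lift (g * (h ≫ i)⁻¹) (sm aZ h z) ≫ j = lift g z ≫ j)
    (h3 : ∀ (T : Over S) (g g' : T ⟶ G) (z z' : T ⟶ Z), lift g z ≫ j = lift g' z' ≫ j →
      ∃ h : T ⟶ H, g = g' * (h ≫ i)⁻¹ ∧ z = sm aZ h z')
    (h4 : ∀ (T : Over S) (h h' : T ⟶ H) (z : T ⟶ Z), h ≫ i = h' ≫ i → sm aZ h z = sm aZ h' z → h = h')
    (h5 : NonAbH1.IsLocallyTrivialFor K (Over.mk j.left : Over Y.left)) :
    ChGrp.IsBalProd K i aZ aY j := by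
  refine ⟨?_, ?_, h5⟩
  · rw [isEquivariant_iff]
    intro T g p
    obtain ⟨g', z, rfl⟩ := exists_eq_lift p
    rw [sm_prod, sm_trivialAction, sm_trivial, h1]
  · refine isPullback_of_points ?_ ?_ ?_
    · refine AlgGrp.Action.hom_ext_lift₂ fun T h p => ?_
      obtain ⟨g, z, rfl⟩ := exists_eq_lift p
      rw [← Category.assoc, lift_act, sm_twist, lift_snd_assoc, h2]
    · intro T x y hxy
      obtain ⟨g, z, rfl⟩ := exists_eq_lift x
      obtain ⟨g', z', rfl⟩ := exists_eq_lift y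
      obtain ⟨h, hg, hz⟩ := h3 T g g' z z' hxy
      exact ⟨lift h (lift g' z'), by rw [lift_act, sm_twist, hg, hz], by rw [lift_snd]⟩
    · intro T p p' e1 e2
      obtain ⟨h, q, rfl⟩ := exists_eq_lift p
      obtain ⟨h', q', rfl⟩ := exists_eq_lift p'
      rw [lift_snd, lift_snd] at e2
      subst e2
      obtain ⟨g, z, rfl⟩ := exists_eq_lift q
      rw [lift_act, lift_act, sm_twist, sm_twist] at e1
      obtain ⟨e3, e4⟩ := lift_inj e1
      rw [mul_right_inj, inv_inj] at e3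
      rw [h4 T h h' z e3 e4]

theorem balProd_mul (hY : ChGrp.IsBalProd K i aZ aY j) {T : Over S} (g' g : T ⟶ G) (z : T ⟶ Z) :
    lift (g' * g) z ≫ j = sm aY g' (lift g z ≫ j) := by
  have := (isEquivariant_iff _ _ _).1 hY.1 T g' (lift g z)
  rwa [sm_prod, sm_trivialAction, sm_trivial] at this

theorem balProd_eq_sm (hY : ChGrp.IsBalProd K i aZ aY j) {T : Over S} (g : T ⟶ G) (z : T ⟶ Z) :
    lift g z ≫ j = sm aY g (lift 1 z ≫ j) := by
  rw [← balProd_mul hY, _root_.mul_one]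

theorem balProd_twist (hY : ChGrp.IsBalProd K i aZ aY j) {T : Over S} (h : T ⟶ H) (g : T ⟶ G) (z : T ⟶ Z) :
    lift (g * (h ≫ i)⁻¹) (sm aZ h z) ≫ j = lift g z ≫ j := by
  have := congrArg (lift h (lift g z) ≫ ·) hY.2.1.w
  simp only [lift_snd_assoc] at this
  rwa [← Category.assoc, lift_act, sm_twist] at this

theorem balProd_mul_inner (hY : ChGrp.IsBalProd K i aZ aY j) {T : Over S} (h : T ⟶ H) (g : T ⟶ G) (z : T ⟶ Z) :
    lift (g * (h ≫ i)) z ≫ j = lift g (sm aZ h z) ≫ j := by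
  have := balProd_twist hY h (g * (h ≫ i)) z
  rw [mul_inv_cancel_right] at this
  exact this.symm

theorem exists_of_balProd (hY : ChGrp.IsBalProd K i aZ aY j) {T : Over S} (g g' : T ⟶ G) (z z' : T ⟶ Z)
    (e : lift g z ≫ j = lift g' z' ≫ j) : ∃ h : T ⟶ H, g = g' * (h ≫ i)⁻¹ ∧ z = sm aZ h z' := by
  obtain ⟨p, hp1, hp2⟩ := exists_of_isPullback hY.2.1 _ _ e
  obtain ⟨h, q, rfl⟩ := exists_eq_lift p
  rw [lift_snd] at hp2
  subst hp2
  rw [lift_act, sm_twist] at hp1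
  obtain ⟨e1, e2⟩ := lift_inj hp1
  exact ⟨h, e1.symm, e2.symm⟩

theorem unique_of_balProd (hY : ChGrp.IsBalProd K i aZ aY j) {T : Over S} (h h' : T ⟶ H) (z : T ⟶ Z)
    (e : h ≫ i = h' ≫ i) (e' : sm aZ h z = sm aZ h' z) : h = h' := by
  have h1 : lift h (lift (1 : T ⟶ G) z) = lift h' (lift (1 : T ⟶ G) z) := by
    apply hY.2.1.hom_ext
    · rw [lift_act, lift_act, sm_twist, sm_twist, e, e']
    · rw [lift_snd, lift_snd]
  exact (lift_inj h1).1

end BalProd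

end K982.Act
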