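import Groth.Agent.ChGrp.K982.Act
import Mathlib.CategoryTheory.Limits.Constructions.Over.Basic

/-!
# Descent of properties of morphisms along a morphism with fppf-local sections
-/

set_option autoImplicit false
universe u

open CategoryTheory CategoryTheory.Limits MonoidalCategory CartesianMonoidalCategory MonObj GrpObj AlgebraicGeometry Opposite

namespace K982.Descent

open K982.Pts K982.Act

/-- A covering family for `Scheme.precoverage P` is refined by a single covering morphism of a coproduct of members. -/
theorem exists_single {S : Scheme.{u}} {P : MorphismProperty Scheme.{u}} {R : Presieve S}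
    (hR : R ∈ Scheme.precoverage P S) :
    ∃ (U : S → Scheme.{u}) (f : ∀ i, U i ⟶ S), (∀ i, R (f i)) ∧ (∀ i, P (f i)) ∧ Surjective (Sigma.desc f) := by
  have h1 : ∀ s : S, ∃ (Y : Scheme.{u}) (g : Y ⟶ S), R g ∧ s ∈ Set.range g := by
    intro s
    obtain ⟨Y, g, hg, hs⟩ := hR.1 s
    obtain ⟨hg⟩ := hg
    exact ⟨_, _, hg, hs⟩
  choose U f hf hs using h1
  refine ⟨U, f, hf, fun i => hR.2 (hf i), ?_⟩
  apply Surjective.sigmaDesc_of_union_range_eq_univ
  rw [Set.eq_univ_iff_forall]
  intro s
  exact Set.mem_iUnion.2 ⟨s, hs s⟩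

/-- fppf local triviality through one surjective flat locally finitely presented morphism. -/
theorem exists_cover {S : Scheme.{u}} {X : Over S} (h : NonAbH1.IsLocallyTrivialFor Scheme.fppfPrecoverage X) :
    ∃ (S' : Scheme.{u}) (c : S' ⟶ S), Surjective c ∧ Flat c ∧ LocallyOfFinitePresentation c ∧
      NonAbH1.HasSectionOver X c := by
  obtain ⟨R, hR, hsec⟩ := h
  obtain ⟨U, f, hf, hP, hs⟩ := exists_single (P := @Flat ⊓ @LocallyOfFinitePresentation) hR
  choose s hs' using fun i => hsec (f i) (hf i)
  refine ⟨_, Sigma.desc f, hs, IsZariskiLocalAtSource.sigmaDesc (P := @Flat) fun i => (hP i).1,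
    IsZariskiLocalAtSource.sigmaDesc (P := @LocallyOfFinitePresentation) fun i => (hP i).2, Sigma.desc s, ?_⟩
  apply Sigma.hom_ext
  intro i
  simp [hs']

/-- one surjective flat locally finitely presented morphism is an fppf covering. -/
theorem isLocallyTrivialFor_fppf {S : Scheme.{u}} {X : Over S} {S' : Scheme.{u}} (c : S' ⟶ S) [Surjective c] [Flat c]
    [LocallyOfFinitePresentation c] (h : NonAbH1.HasSectionOver X c) :
    NonAbH1.IsLocallyTrivialFor Scheme.fppfPrecoverage X := by
  refine ⟨_, Scheme.Hom.singleton_mem_fppfPrecoverage c, ?_⟩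
  rintro Y g ⟨⟩
  exact h

/-- a scheme which is locally trivial for the fppf precoverage surjects onto the base. -/
theorem surjective_of_isLocallyTrivial {S : Scheme.{u}} {X : Over S}
    (h : NonAbH1.IsLocallyTrivialFor Scheme.fppfPrecoverage X) : Surjective X.hom := by
  obtain ⟨S', c, hc, -, -, s, hs⟩ := exists_cover h
  have : Surjective (s ≫ X.hom) := by rw [hs]; exact hc
  exact Surjective.of_comp s X.hom

variable {S : Scheme.{u}}

/-- A property stable under base change which descends along surjective flat locally finitely presented morphisms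
descends along morphisms with fppf-local sections. -/
theorem property_descend (P : MorphismProperty Scheme.{u}) [P.IsStableUnderBaseChange]
    [P.DescendsAlong (@Surjective ⊓ @Flat ⊓ @LocallyOfFinitePresentation)]
    {A Y A' Y' : Over S} {j : A ⟶ Y}
    (hj : NonAbH1.IsLocallyTrivialFor Scheme.fppfPrecoverage (Over.mk j.left : Over Y.left))
    {m : Y' ⟶ Y} {m' : A' ⟶ A} {j' : A' ⟶ Y'} (h : IsPullback j' m' m j) (hP : P m'.left) : P m.left := by
  obtain ⟨S', c, hc1, hc2, hc3, s, hs⟩ := exists_cover hj
  have hs' : s ≫ j.left = c := hs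
  have h1 : IsPullback j'.left m'.left m.left j.left := h.map (Over.forget S)
  have h2 := (IsPullback.of_hasPullback m'.left s).paste_horiz h1
  rw [hs'] at h2
  refine MorphismProperty.of_isPullback_of_descendsAlong (P := P)
    (Q := @Surjective ⊓ @Flat ⊓ @LocallyOfFinitePresentation) h2.flip ⟨⟨hc1, hc2⟩, hc3⟩ ?_
  exact P.pullback_snd _ _ hP

theorem isPullback_whiskerLeft (Q : Over S) {X X' : Over S} (f : X' ⟶ X) :
    IsPullback (snd Q X') (Q ◁ f) f (snd Q X) := by
  refine isPullback_of_points (by simp) ?_ ?_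
  · intro T x y hxy
    obtain ⟨q, z, rfl⟩ := exists_eq_lift y
    rw [lift_snd] at hxy
    exact ⟨lift q x, by rw [lift_snd], by rw [lift_whiskerLeft, hxy]⟩
  · intro T p p' e1 e2
    obtain ⟨q, x, rfl⟩ := exists_eq_lift p
    obtain ⟨q', x', rfl⟩ := exists_eq_lift p'
    rw [lift_snd, lift_snd] at e1
    rw [lift_whiskerLeft, lift_whiskerLeft] at e2
    rw [e1, (lift_inj e2).1]

theorem property_whiskerLeft (P : MorphismProperty Scheme.{u}) [P.IsStableUnderBaseChange]
    (Q : Over S) {X X' : Over S} (f : X' ⟶ X) (hP : P f.left) : P (Q ◁ f).left :=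
  P.of_isPullback ((isPullback_whiskerLeft Q f).map (Over.forget S)) hP

end K982.Descent
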