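import Groth.Prelude.Def_ChGrp
import Mathlib.AlgebraicGeometry.Sites.Fpqc
import Mathlib.AlgebraicGeometry.Morphisms.FlatDescent

/-!
# Points calculus for morphisms of S-schemes with local sections

`j : A ⟶ Y` a morphism of `Over S` with `NonAbH1.IsLocallyTrivialFor K (Over.mk j.left : Over Y.left)`:
* `hom_ext_lift` : equality of two morphisms out of `T` can be checked where a point of `Y` lifts to `A`;
* `existsUnique_glue` : gluing of morphisms given where a point of `Y` lifts to `A`;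
* `isLocallyTrivialFor_of_lift` : local sections for another morphism;
* `isPullback_of_points` : cartesian squares on points.
-/

set_option autoImplicit false
universe u

open CategoryTheory CategoryTheory.Limits MonoidalCategory CartesianMonoidalCategory MonObj GrpObj AlgebraicGeometry Opposite

namespace K982.Pts

theorem isPullback_of_points {C : Type*} [Category C] {P X Y Z : C} {fst : P ⟶ X} {snd : P ⟶ Y}
    {f : X ⟶ Z} {g : Y ⟶ Z} (w : fst ≫ f = snd ≫ g)
    (h : ∀ (T : C) (x : T ⟶ X) (y : T ⟶ Y), x ≫ f = y ≫ g → ∃ p : T ⟶ P, p ≫ fst = x ∧ p ≫ snd = y)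
    (hu : ∀ (T : C) (p p' : T ⟶ P), p ≫ fst = p' ≫ fst → p ≫ snd = p' ≫ snd → p = p') :
    IsPullback fst snd f g :=
  ⟨⟨w⟩, ⟨PullbackCone.IsLimit.mk w (fun s => (h s.pt s.fst s.snd s.condition).choose)
    (fun s => (h s.pt s.fst s.snd s.condition).choose_spec.1)
    (fun s => (h s.pt s.fst s.snd s.condition).choose_spec.2)
    (fun s _ h1 h2 => hu _ _ _ (h1.trans (h s.pt s.fst s.snd s.condition).choose_spec.1.symm)
      (h2.trans (h s.pt s.fst s.snd s.condition).choose_spec.2.symm))⟩⟩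

theorem exists_of_isPullback {C : Type*} [Category C] {P X Y Z : C} {fst : P ⟶ X} {snd : P ⟶ Y}
    {f : X ⟶ Z} {g : Y ⟶ Z} (h : IsPullback fst snd f g) {T : C} (x : T ⟶ X) (y : T ⟶ Y)
    (hxy : x ≫ f = y ≫ g) : ∃ p : T ⟶ P, p ≫ fst = x ∧ p ≫ snd = y :=
  ⟨h.lift x y hxy, h.lift_fst _ _ _, h.lift_snd _ _ _⟩

variable {S : Scheme.{u}} {K : Precoverage Scheme.{u}} {A Y : Over S}

/-- The sieve of the morphisms to `T` over which the point `y` of `Y` lifts to `A`. -/
def liftSieve (j : A ⟶ Y) {T : Over S} (y : T ⟶ Y) : Sieve T.left where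
  arrows _ r := ∃ a : Over.mk (r ≫ T.hom) ⟶ A, a ≫ j = (Over.homMk r : Over.mk (r ≫ T.hom) ⟶ T) ≫ y
  downward_closed := by
    rintro Z W r ⟨a, ha⟩ g
    refine ⟨(Over.homMk g (by simp) : Over.mk ((g ≫ r) ≫ T.hom) ⟶ Over.mk (r ≫ T.hom)) ≫ a, ?_⟩
    refine (Category.assoc _ a j).trans ?_
    rw [ha]
    refine (Category.assoc _ _ y).symm.trans ?_
    congr 1

theorem liftSieve_mem {j : A ⟶ Y} (hj : NonAbH1.IsLocallyTrivialFor K (Over.mk j.left : Over Y.left))
    {T : Over S} (y : T ⟶ Y) : liftSieve j y ∈ K.toGrothendieck T.left := by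
  obtain ⟨R, hR, hsec⟩ := hj
  have h1 := (K.toGrothendieck).pullback_stable y.left (Precoverage.generate_mem_toGrothendieck hR)
  refine (K.toGrothendieck).superset_covering ?_ h1
  rintro Z r ⟨W, q, g, hg, hqg⟩
  obtain ⟨s, hs⟩ := hsec g hg
  have hs' : s ≫ j.left = g := hs
  have h2 : (q ≫ s) ≫ j.left = r ≫ y.left := by rw [Category.assoc, hs', hqg]
  refine ⟨Over.homMk (q ≫ s) ?_, ?_⟩
  · rw [← Over.w j, ← Category.assoc, h2, Category.assoc, Over.w y]
    rfl
  · ext1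
    exact h2

theorem isSheaf_yoneda (hK : K ≤ Scheme.fpqcPrecoverage) (Z : Scheme.{u}) :
    Presieve.IsSheaf K.toGrothendieck (yoneda.obj Z) :=
  Presieve.isSheaf_of_le _ (Precoverage.toGrothendieck_mono hK)
    (GrothendieckTopology.Subcanonical.isSheaf_of_isRepresentable (J := Scheme.fpqcTopology) _)

/-- Two morphisms out of `T` agree when they agree wherever the point `y` of `Y` lifts to `A`. -/
theorem hom_ext_lift (hK : K ≤ Scheme.fpqcPrecoverage) {j : A ⟶ Y}
    (hj : NonAbH1.IsLocallyTrivialFor K (Over.mk j.left : Over Y.left))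
    {T Z : Over S} (y : T ⟶ Y) {f g : T ⟶ Z}
    (h : ∀ (T' : Over S) (t : T' ⟶ T) (a : T' ⟶ A), a ≫ j = t ≫ y → t ≫ f = t ≫ g) : f = g := by
  apply Over.OverMorphism.ext
  have h1 := (isSheaf_yoneda hK Z.left).isSeparated _ (liftSieve_mem hj y)
  refine h1.ext fun W r hr => ?_
  obtain ⟨a, ha⟩ := hr
  have := congrArg (fun m => m.left) (h (Over.mk (r ≫ T.hom)) (Over.homMk r) a ha)
  simpa using this

/-- Gluing of morphisms out of `T` given wherever the point `y` of `Y` lifts to `A`. -/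
theorem existsUnique_glue (hK : K ≤ Scheme.fpqcPrecoverage) {j : A ⟶ Y}
    (hj : NonAbH1.IsLocallyTrivialFor K (Over.mk j.left : Over Y.left))
    {T Z : Over S} (y : T ⟶ Y)
    (F : ∀ (T' : Over S) (t : T' ⟶ T) (a : T' ⟶ A), a ≫ j = t ≫ y → (T' ⟶ Z))
    (hnat : ∀ (T' T'' : Over S) (r : T'' ⟶ T') (t : T' ⟶ T) (a : T' ⟶ A) (h : a ≫ j = t ≫ y),
      r ≫ F T' t a h = F T'' (r ≫ t) (r ≫ a) (by rw [Category.assoc, h, Category.assoc]))
    (hind : ∀ (T' : Over S) (t : T' ⟶ T) (a a' : T' ⟶ A) (h : a ≫ j = t ≫ y) (h' : a' ≫ j = t ≫ y),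
      F T' t a h = F T' t a' h') :
    ∃! φ : T ⟶ Z, ∀ (T' : Over S) (t : T' ⟶ T) (a : T' ⟶ A) (h : a ≫ j = t ≫ y),
      t ≫ φ = F T' t a h := by
  have hmem := liftSieve_mem hj y
  have hsh := (isSheaf_yoneda hK Z.left) _ hmem
  let fam : Presieve.FamilyOfElements (yoneda.obj Z.left) (liftSieve j y).arrows :=
    fun W r hr => (F (Over.mk (r ≫ T.hom)) (Over.homMk r) hr.choose hr.choose_spec).left
  have hfam : ∀ {W : Scheme.{u}} (r : W ⟶ T.left) (hr : liftSieve j y r)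
      (a : Over.mk (r ≫ T.hom) ⟶ A) (ha : a ≫ j = (Over.homMk r : Over.mk (r ≫ T.hom) ⟶ T) ≫ y),
      fam r hr = (F (Over.mk (r ≫ T.hom)) (Over.homMk r) a ha).left := by
    intro W r hr a ha
    exact congrArg (fun m => m.left) (hind _ (Over.homMk r) hr.choose a hr.choose_spec ha)
  have hcongr : ∀ {T' : Over S} (t t' : T' ⟶ T) (a : T' ⟶ A) (h : a ≫ j = t ≫ y) (h' : a ≫ j = t' ≫ y),
      t = t' → F T' t a h = F T' t' a h' := by
    intro T' t t' a h h' e
    subst e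
    rfl
  have hcomp : fam.Compatible := by
    rw [Presieve.compatible_iff_sieveCompatible]
    intro W V r g hr
    obtain ⟨a, ha⟩ := id hr
    let e : Over.mk ((g ≫ r) ≫ T.hom) ⟶ Over.mk (r ≫ T.hom) := Over.homMk g (by simp)
    have he : (Over.homMk (g ≫ r) : Over.mk ((g ≫ r) ≫ T.hom) ⟶ T) = e ≫ Over.homMk r := by
      ext1
      simp [e]
    have hea : (e ≫ a) ≫ j = (e ≫ Over.homMk r) ≫ y :=
      (Category.assoc e a j).trans ((congrArg (e ≫ ·) ha).trans (Category.assoc e _ y).symm)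
    rw [hfam r hr a ha, hfam (g ≫ r) _ (e ≫ a) (hea.trans (by rw [he])), hcongr _ _ _ _ hea he,
      ← hnat _ _ e _ a ha]
    rfl
  obtain ⟨h0, hh0, -⟩ := hsh fam hcomp
  have hpt : ∀ (T' : Over S) (t : T' ⟶ T) (a : T' ⟶ A) (h : a ≫ j = t ≫ y),
      t.left ≫ h0 = (F T' t a h).left := by
    intro T' t a h
    let e : Over.mk (t.left ≫ T.hom) ⟶ T' := Over.homMk (𝟙 _) (by simp)
    have h2 : (Over.homMk t.left : Over.mk (t.left ≫ T.hom) ⟶ T) = e ≫ t := by
      ext1
      simp [e]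
    have ha : (e ≫ a) ≫ j = (Over.homMk t.left : Over.mk (t.left ≫ T.hom) ⟶ T) ≫ y := by
      rw [Category.assoc, h, h2, Category.assoc]
    have hr : liftSieve j y t.left := ⟨e ≫ a, ha⟩
    have h1 := hh0 t.left hr
    change t.left ≫ h0 = fam t.left hr at h1
    rw [h1, hfam _ hr (e ≫ a) ha, hcongr _ _ _ _ (by rw [Category.assoc, h, Category.assoc]) h2,
      ← hnat _ _ e t a h]
    change 𝟙 _ ≫ (F T' t a h).left = _
    rw [Category.id_comp]
  have hover : h0 ≫ Z.hom = T.hom := by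
    refine ((isSheaf_yoneda hK S).isSeparated _ hmem).ext fun W r hr => ?_
    change r ≫ h0 ≫ Z.hom = r ≫ T.hom
    have h1 := hh0 r hr
    change r ≫ h0 = fam r hr at h1
    rw [← Category.assoc, h1]
    exact Over.w (F (Over.mk (r ≫ T.hom)) (Over.homMk r) hr.choose hr.choose_spec)
  refine ⟨Over.homMk h0 hover, ?_, ?_⟩
  · intro T' t a h
    ext1
    exact hpt T' t a h
  · intro φ' hφ'
    refine hom_ext_lift hK hj y fun T' t a h => ?_
    rw [hφ' T' t a h]
    ext1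
    exact (hpt T' t a h).symm

/-- Descent of a morphism out of `A` to a morphism out of `Y`. -/
theorem existsUnique_descend (hK : K ≤ Scheme.fpqcPrecoverage) {j : A ⟶ Y}
    (hj : NonAbH1.IsLocallyTrivialFor K (Over.mk j.left : Over Y.left))
    {Z : Over S} (F : A ⟶ Z)
    (hF : ∀ (T : Over S) (a a' : T ⟶ A), a ≫ j = a' ≫ j → a ≫ F = a' ≫ F) :
    ∃! φ : Y ⟶ Z, j ≫ φ = F := by
  obtain ⟨φ, hφ, -⟩ := existsUnique_glue hK hj (𝟙 Y) (fun T' _ a _ => a ≫ F)
    (fun T' T'' r t a h => by rw [Category.assoc])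
    (fun T' t a a' h h' => hF _ _ _ (h.trans h'.symm))
  refine ⟨φ, ?_, fun φ' hφ' => ?_⟩
  · have := hφ A j (𝟙 A) (by simp)
    simpa using this
  · refine hom_ext_lift hK hj (𝟙 Y) fun T' t a h => ?_
    have h1 : t = a ≫ j := by rw [h, Category.comp_id]
    rw [hφ T' t a h, h1, Category.assoc, hφ']

theorem cancel_left (hK : K ≤ Scheme.fpqcPrecoverage) {j : A ⟶ Y}
    (hj : NonAbH1.IsLocallyTrivialFor K (Over.mk j.left : Over Y.left))
    {Z : Over S} {φ φ' : Y ⟶ Z} (h : j ≫ φ = j ≫ φ') : φ = φ' := by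
  refine hom_ext_lift hK hj (𝟙 Y) fun T' t a h' => ?_
  have h1 : t = a ≫ j := by rw [h', Category.comp_id]
  rw [h1, Category.assoc, Category.assoc, h]

/-- A point of `Z` which lifts to a monomorphism `m : M ⟶ Z` wherever `y` lifts to `A`, lifts to `M`. -/
theorem exists_lift_of_mono (hK : K ≤ Scheme.fpqcPrecoverage) {j : A ⟶ Y}
    (hj : NonAbH1.IsLocallyTrivialFor K (Over.mk j.left : Over Y.left))
    {T Z M : Over S} (y : T ⟶ Y) (m : M ⟶ Z) [Mono m] (z : T ⟶ Z)
    (h : ∀ (T' : Over S) (t : T' ⟶ T) (a : T' ⟶ A), a ≫ j = t ≫ y → ∃ x : T' ⟶ M, x ≫ m = t ≫ z) :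
    ∃ x : T ⟶ M, x ≫ m = z := by
  obtain ⟨φ, hφ, -⟩ := existsUnique_glue hK hj y (fun T' t a ha => (h T' t a ha).choose)
    (fun T' T'' r t a ha => by
      rw [← cancel_mono m, Category.assoc, (h T' t a ha).choose_spec,
        (h T'' (r ≫ t) (r ≫ a) (by rw [Category.assoc, ha, Category.assoc])).choose_spec,
        Category.assoc])
    (fun T' t a a' ha ha' => by
      rw [← cancel_mono m, (h T' t a ha).choose_spec])
  refine ⟨φ, hom_ext_lift hK hj y fun T' t a ha => ?_⟩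
  rw [← Category.assoc, hφ T' t a ha, (h T' t a ha).choose_spec]

/-- Local sections of `j'` from those of `j`. -/
theorem isLocallyTrivialFor_of_lift [K.IsStableUnderBaseChange] {j : A ⟶ Y}
    (hj : NonAbH1.IsLocallyTrivialFor K (Over.mk j.left : Over Y.left))
    {A' Y' : Over S} (j' : A' ⟶ Y') (y : Y' ⟶ Y)
    (h : ∀ (T : Over S) (t : T ⟶ Y') (a : T ⟶ A), a ≫ j = t ≫ y → ∃ a' : T ⟶ A', a' ≫ j' = t) :
    NonAbH1.IsLocallyTrivialFor K (Over.mk j'.left : Over Y'.left) := by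
  obtain ⟨R, hR, hsec⟩ := hj
  refine ⟨R.pullbackArrows y.left, ?_, ?_⟩
  · exact Precoverage.pullbackArrows_mem _ hR
  · rintro W r ⟨Z, g, hg⟩
    obtain ⟨s, hs⟩ := hsec g hg
    have hs' : s ≫ j.left = g := hs
    let T : Over S := Over.mk (pullback.snd g y.left ≫ Y'.hom)
    let t : T ⟶ Y' := Over.homMk (pullback.snd g y.left)
    have h2 : (pullback.fst g y.left ≫ s) ≫ j.left = pullback.snd g y.left ≫ y.left := by
      rw [Category.assoc, hs', pullback.condition]
    let a : T ⟶ A := Over.homMk (pullback.fst g y.left ≫ s) (by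
      rw [← Over.w j, ← Category.assoc, h2, Category.assoc, Over.w y]
      rfl)
    obtain ⟨a', ha'⟩ := h T t a (by ext1; exact h2)
    exact ⟨a'.left, congrArg (fun m => m.left) ha'⟩

end K982.Pts
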