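import Groth.Agent.EqInt.K957.TrivStab
import Groth.Agent.S3042
import Groth.Agent.Books.AlgPts
import Groth.Agent.ChGrp.K982.Act

/-!
# Finite stabilizers in groups without torsion are trivial (characteristic zero)
-/

set_option autoImplicit false
universe u
open CategoryTheory CategoryTheory.Limits MonoidalCategory CartesianMonoidalCategory MonObj GrpObj AlgebraicGeometry Opposite

namespace K982.Stab

open K957 K982.Pts K982.Act

section

variable {S : Scheme.{u}} {G H X SX : Over S} [GrpObj G] [GrpObj H]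

/-- The stabilizers of a closed subgroup are finite when the stabilizers of the group are. -/
theorem isFinite_stabSnd (a : AlgGrp.Action G X) (σX : SX ⟶ G ⊗ X) [Mono σX]
    (hSX : ∀ (T : Over S) (g : T ⟶ G) (x : T ⟶ X), (∃ s : T ⟶ SX, s ≫ σX = lift g x) ↔ lift g x ≫ a.act = x)
    [IsFinite (σX ≫ snd G X).left] (i : H ⟶ G) [IsMonHom i] [IsClosedImmersion i.left] :
    IsFinite (Free.stabSnd (a.restrict i)) := by
  let m : pullback i (σX ≫ fst G X) ⟶ H ⊗ X :=
    lift (pullback.fst _ _) (pullback.snd _ _ ≫ σX ≫ snd G X)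
  have hσ : ∀ {T : Over S} (s : T ⟶ SX), lift (s ≫ σX ≫ fst G X) (s ≫ σX ≫ snd G X) ≫ a.act = s ≫ σX ≫ snd G X := by
    intro T s
    refine (hSX T _ _).1 ⟨s, ?_⟩
    rw [← comp_lift, ← comp_lift, lift_fst_snd, Category.comp_id]
  have hpb : IsPullback m (pullback.snd i (σX ≫ fst G X) ≫ σX ≫ snd G X) (GIT.psi (a.restrict i) (𝟙 X))
      (lift (𝟙 X) (𝟙 X)) := by
    refine isPullback_of_points ?_ ?_ ?_
    · rw [Free.lift_psi, Free.comp_diag, lift_act, sm_restrict, pullback.condition, sm, hσ]
    · intro T x y e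
      obtain ⟨h, z, rfl⟩ := exists_eq_lift x
      rw [Free.lift_psi, Free.comp_diag] at e
      obtain ⟨e1, rfl⟩ := lift_inj e
      rw [lift_act, sm_restrict] at e1
      obtain ⟨s, hs⟩ := (hSX T (h ≫ i) z).2 e1
      have hs1 : s ≫ σX ≫ fst G X = h ≫ i := by rw [← Category.assoc, hs, lift_fst]
      have hs2 : s ≫ σX ≫ snd G X = z := by rw [← Category.assoc, hs, lift_snd]
      refine ⟨pullback.lift h s hs1.symm, ?_, ?_⟩
      · rw [comp_lift, pullback.lift_fst, pullback.lift_snd_assoc, hs2]
      · rw [pullback.lift_snd_assoc, hs2]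
    · intro T p p' e _
      have e1 : p ≫ pullback.fst i (σX ≫ fst G X) = p' ≫ pullback.fst i (σX ≫ fst G X) := by
        have := congrArg (· ≫ fst H X) e
        simpa [m] using this
      have e2 : p ≫ pullback.snd i (σX ≫ fst G X) ≫ σX ≫ snd G X = p' ≫ pullback.snd i (σX ≫ fst G X) ≫ σX ≫ snd G X := by
        have := congrArg (· ≫ snd H X) e
        simpa [m] using this
      apply pullback.hom_ext e1
      rw [← cancel_mono σX]
      apply CartesianMonoidalCategory.hom_ext
      · rw [Category.assoc, Category.assoc, Category.assoc, Category.assoc, ← pullback.condition,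
          ← Category.assoc, e1, Category.assoc]
      · rw [Category.assoc, Category.assoc, Category.assoc, Category.assoc, e2]
  have h1 : IsPullback m.left _ _ _ := hpb.map (Over.forget S)
  have h2 : IsClosedImmersion (pullback.snd i (σX ≫ fst G X)).left :=
    MorphismProperty.of_isPullback (P := @IsClosedImmersion)
      ((IsPullback.of_hasPullback i (σX ≫ fst G X)).map (Over.forget S)) ‹_›
  have h3 : IsFinite (pullback.snd i (σX ≫ fst G X) ≫ σX ≫ snd G X).left := by
    rw [Over.comp_left]
    infer_instance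
  have h4 : h1.isoPullback.inv ≫ (pullback.snd i (σX ≫ fst G X) ≫ σX ≫ snd G X).left =
      Free.stabSnd (a.restrict i) := h1.isoPullback_inv_snd
  rw [← h4]
  exact (MorphismProperty.cancel_left_of_respectsIso @IsFinite h1.isoPullback.inv _).2 h3

end

section

variable {S : Scheme.{u}} {U X : Over S} [GrpObj U] (b : AlgGrp.Action U X)

/-- Finite stabilizers in a group without torsion are radicial over the base. -/
theorem universallyInjective_stabSnd [IsFinite (Free.stabSnd b)]
    (htf : ∀ (T : Over S) (g : T ⟶ U) (m : ℕ), 1 ≤ m → g ^ m = 1 → g = 1) :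
    UniversallyInjective (Free.stabSnd b) := by
  rw [UniversallyInjective.iff_diagonal]
  refine ⟨fun z => ?_⟩
  let K : Type u := AlgebraicClosure ((pullback (Free.stabSnd b) (Free.stabSnd b)).residueField z)
  let ζ : Spec (CommRingCat.of K) ⟶ pullback (Free.stabSnd b) (Free.stabSnd b) :=
    Spec.map (CommRingCat.ofHom (algebraMap ((pullback (Free.stabSnd b) (Free.stabSnd b)).residueField z) K)) ≫
      (pullback (Free.stabSnd b) (Free.stabSnd b)).fromSpecResidueField z
  have hz : ζ (IsLocalRing.closedPoint K) = z := by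
    rw [Scheme.Hom.comp_apply, Scheme.fromSpecResidueField_apply]
  let x : Spec (CommRingCat.of K) ⟶ X.left := ζ ≫ pullback.fst _ _ ≫ Free.stabSnd b
  have hx : x = ζ ≫ pullback.snd _ _ ≫ Free.stabSnd b := by
    rw [← pullback.condition]
  have hf : IsFinite (StabGroup.fib b x).hom :=
    inferInstanceAs (IsFinite (pullback.snd (Free.stabSnd b) x))
  have hfin : Finite (StabGroup.fib b x).left := by
    have h1 := Scheme.Hom.finite_preimage_singleton (StabGroup.fib b x).hom (IsLocalRing.closedPoint K)
    exact Set.finite_univ_iff.1 (h1.subset fun y _ => Subsingleton.elim (α := PrimeSpectrum K) _ _)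
  have hfin2 : Finite (𝟙_ (Over (Spec (CommRingCat.of K))) ⟶ StabGroup.fib b x) :=
    Finite.of_injective (fun p => Groth.Agent.Books.AlgPts.pt p)
      fun p q h => Groth.Agent.Books.AlgPts.pt_injective h
  let e : (𝟙_ (Over (Spec (CommRingCat.of K))) ⟶ StabGroup.fib b x) ≃
      (StabGroup.stab b x (𝟙_ (Over (Spec (CommRingCat.of K))))) := (StabGroup.repr b x).homEquiv
  have hfin3 : Finite (StabGroup.stab b x (𝟙_ (Over (Spec (CommRingCat.of K))))) := Finite.of_equiv _ e
  have hsub : ∀ v : StabGroup.stab b x (𝟙_ (Over (Spec (CommRingCat.of K)))), v = 1 := by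
    intro v
    apply Subtype.ext
    refine htf _ v.1 (Nat.card (StabGroup.stab b x (𝟙_ (Over (Spec (CommRingCat.of K)))))) Nat.card_pos ?_
    have := congrArg Subtype.val (pow_card_eq_one' (x := v))
    exact (Subgroup.coe_pow _ v _).symm.trans this
  have hsub' : ∀ p q : 𝟙_ (Over (Spec (CommRingCat.of K))) ⟶ StabGroup.fib b x, p = q := fun p q =>
    e.injective ((hsub _).trans (hsub _).symm)
  let p : 𝟙_ (Over (Spec (CommRingCat.of K))) ⟶ StabGroup.fib b x :=
    Over.homMk (pullback.lift (ζ ≫ pullback.fst _ _) (𝟙 _) (by simp [x])) (pullback.lift_snd _ _ _)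
  let q : 𝟙_ (Over (Spec (CommRingCat.of K))) ⟶ StabGroup.fib b x :=
    Over.homMk (pullback.lift (ζ ≫ pullback.snd _ _) (𝟙 _) (by simp [hx])) (pullback.lift_snd _ _ _)
  have h1 : ζ ≫ pullback.fst _ _ = ζ ≫ pullback.snd _ _ := by
    have h2 : p.left ≫ pullback.fst _ _ = q.left ≫ pullback.fst _ _ := by rw [hsub' p q]
    exact (pullback.lift_fst _ _ _).symm.trans (h2.trans (pullback.lift_fst _ _ _))
  refine ⟨(ζ ≫ pullback.fst _ _) (IsLocalRing.closedPoint K), ?_⟩
  rw [← Scheme.Hom.comp_apply]
  have h3 : (ζ ≫ pullback.fst _ _) ≫ pullback.diagonal (Free.stabSnd b) = ζ := by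
    apply pullback.hom_ext
    · simp
    · rw [Category.assoc, pullback.diagonal_snd, Category.comp_id, h1]
  rw [h3, hz]

end

variable {k : Type u} [Field k] [CharZero k] {U X : Over (Spec (CommRingCat.of k))} [GrpObj U]
  (b : AlgGrp.Action U X)

theorem mono_stabSnd [IsFinite (Free.stabSnd b)]
    (htf : ∀ (T : Over (Spec (CommRingCat.of k))) (g : T ⟶ U) (m : ℕ), 1 ≤ m → g ^ m = 1 → g = 1) :
    Mono (Free.stabSnd b) := by
  have hui := universallyInjective_stabSnd b htf
  rw [Groth.Agent.S3042.result]
  intro x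
  have hK : CharZero (X.left.residueField x) := by
    let f : Spec (X.left.residueField x) ⟶ Spec (CommRingCat.of k) :=
      X.left.fromSpecResidueField x ≫ X.hom
    exact charZero_of_injective_ringHom (f := (Spec.preimage f).hom) (RingHom.injective _)
  have h1 : IsIso ((Free.stabSnd b).fiberToSpecResidueField x) :=
    K957.TrivStab.isIso_fib_of_charZero b (K := X.left.residueField x) (X.left.fromSpecResidueField x)
  infer_instance

/-- Finite stabilizers in a group without torsion are trivial in characteristic zero. -/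
theorem eq_one_of_fix [IsFinite (Free.stabSnd b)]
    (htf : ∀ (T : Over (Spec (CommRingCat.of k))) (g : T ⟶ U) (m : ℕ), 1 ≤ m → g ^ m = 1 → g = 1)
    {T : Over (Spec (CommRingCat.of k))} (v : T ⟶ U) (x : T ⟶ X) (hv : sm b v x = x) : v = 1 := by
  have := mono_stabSnd b htf
  exact Free.eq_one_of_mono b v x hv

end K982.Stab
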