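import Groth.Agent.AlgGrp.K412.Unip
import Groth.Agent.PRed.K540.NoTor

/-!
# Unipotent groups in characteristic zero have no torsion points
-/

set_option autoImplicit false
universe u

open CategoryTheory CategoryTheory.Limits AlgebraicGeometry MonObj MonoidalCategory
  CartesianMonoidalCategory GrpObj

namespace K982.UTors

open K412.Dif

section

variable {S : Scheme.{u}} {G : Over S} [GrpObj G]

theorem dif_pow_eq (a : Fn G) (n : ℕ) {X : Over S} (g : X ⟶ G)
    (h : ∀ x : X ⟶ G, dif a (n + 1) x g = 0) (x : X ⟶ G) (i : ℕ) : dif a n (x * g ^ i) g = dif a n x g := by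
  induction i with
  | zero => rw [pow_zero, _root_.mul_one]
  | succ i ih =>
    have h1 := h (x * g ^ i)
    change dif a n (x * g ^ i * g) g - dif a n (x * g ^ i) g = 0 at h1
    rw [pow_succ, ← _root_.mul_assoc, sub_eq_zero.1 h1, ih]

theorem sum_dif (a : Fn G) (n : ℕ) {X : Over S} (x g : X ⟶ G) (m : ℕ) :
    ∑ i ∈ Finset.range m, dif a (n + 1) (x * g ^ i) g = dif a n (x * g ^ m) g - dif a n x g := by
  have h : ∀ i, dif a (n + 1) (x * g ^ i) g = dif a n (x * g ^ (i + 1)) g - dif a n (x * g ^ i) g := fun i => by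
    rw [pow_succ, ← _root_.mul_assoc]
    rfl
  simp only [h]
  rw [Finset.sum_range_sub (fun i => dif a n (x * g ^ i) g), pow_zero, _root_.mul_one]

theorem dif_one_eq_zero (a : Fn G) {X : Over S} (g : X ⟶ G) (m : ℕ) (hg : g ^ m = 1)
    (hm : ∀ c : Fn X, m • c = 0 → c = 0) (n : ℕ)
    (h : ∀ x : X ⟶ G, dif a (n + 1) x g = 0) : ∀ x : X ⟶ G, dif a 1 x g = 0 := by
  induction n with
  | zero => exact h
  | succ n ih =>
    apply ih
    intro x
    apply hm
    have h1 := sum_dif a n x g m
    rw [hg, _root_.mul_one, sub_self] at h1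
    rw [← h1]
    simp only [dif_pow_eq a (n + 1) g h x]
    simp

end

variable {k : Type u} [Field k] [CharZero k]

theorem eq_zero_of_nsmul (X : Over (Spec (CommRingCat.of k))) (m : ℕ) (hm : 1 ≤ m) (c : Fn X) (h : m • c = 0) :
    c = 0 := by
  let φ : k →+* Fn X := ((Scheme.ΓSpecIso (CommRingCat.of k)).inv ≫ X.hom.appTop).hom
  have h1 : IsUnit (m : k) := (Nat.cast_ne_zero.2 (by omega) : (m : k) ≠ 0).isUnit
  have h2 : IsUnit (m : Fn X) := by
    have := h1.map φ
    rwa [map_natCast] at this
  rw [nsmul_eq_mul] at h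
  exact (h2.mul_right_eq_zero).1 h

/-- A group on which right translations are uniformly unipotent has no torsion points in characteristic zero. -/
theorem eq_one_of_pow {U : Over (Spec (CommRingCat.of k))} [GrpObj U] [IsAffine U.left]
    (hLU : ∀ a : Fn U, LU U a) {X : Over (Spec (CommRingCat.of k))} (g : X ⟶ U) (m : ℕ) (hm : 1 ≤ m)
    (hg : g ^ m = 1) : g = 1 := by
  have key : ∀ a : Fn U, pb g a = pb (1 : X ⟶ U) a := by
    intro a
    obtain ⟨n, hn⟩ := (hLU a).all
    have h0 : ∀ x : X ⟶ U, dif a (n + 1) x g = 0 := by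
      intro x
      change dif a n (x * g) g - dif a n x g = 0
      rw [hn, hn, sub_zero]
    have h1 := dif_one_eq_zero a g m hg (eq_zero_of_nsmul X m hm) n h0 1
    change pb (1 * g) a - pb (1 : X ⟶ U) a = 0 at h1
    rw [_root_.one_mul] at h1
    exact sub_eq_zero.1 h1
  ext1
  apply ext_of_isAffine
  ext a
  exact key a

variable [IsAlgClosed k]

/-- Smooth connected affine groups without subtori have no torsion points in characteristic zero. -/
theorem eq_one_of_pow_of_hasNoSubtorus {U : Over (Spec (CommRingCat.of k))} [GrpObj U] [IsAffine U.left]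
    [Smooth U.hom] [ConnectedSpace U.left] (h : Red.HasNoSubtorus k U)
    {X : Over (Spec (CommRingCat.of k))} (g : X ⟶ U) (m : ℕ) (hm : 1 ≤ m) (hg : g ^ m = 1) : g = 1 :=
  eq_one_of_pow (fun a => K412.Unip.LU_of_hasNoSubtorus h a) g m hm hg

end K982.UTors
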